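import Mathlib

/-!
# Arithmetic lemmas for the odd order case
-/

set_option autoImplicit false

namespace Cfsg.Agent.EPO

open Finset

theorem sq_ge_of_int {n : ℤ} (hn : n ≠ 0) {s : ℝ} (hs : |s| ≤ 1) : (1 - |s|) ^ 2 ≤ ((n : ℝ) - s) ^ 2 := by
  have h1 : (1 : ℝ) ≤ |(n : ℝ)| := by
    rw [← Int.cast_abs]
    exact_mod_cast Int.one_le_abs hn
  have h2 := abs_sub_abs_le_abs_sub (n : ℝ) s
  rw [← sq_abs ((n : ℝ) - s)]
  exact pow_le_pow_left₀ (by linarith) (by linarith) 2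

theorem three_terms {a b : ℤ} (ha : a ≠ 0) (hb : b ≠ 0) {t D A : ℝ} (hD : 3 ≤ D) (hA : D ^ 2 ≤ A) :
    1 ≤ ((a : ℝ) - t) ^ 2 + t ^ 2 * (A - 1) + ((b : ℝ) - t * D) ^ 2 := by
  have hu := abs_nonneg t
  have ht : t ^ 2 = |t| ^ 2 := (sq_abs t).symm
  have h9 : 9 ≤ D ^ 2 := by nlinarith
  have h3 : t ^ 2 * (D ^ 2 - 1) ≤ t ^ 2 * (A - 1) := mul_le_mul_of_nonneg_left (by linarith) (sq_nonneg t)
  by_cases h1 : |t| ≤ 1
  · have e1 := sq_ge_of_int ha h1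
    by_cases h2 : |t * D| ≤ 1
    · have e2 := sq_ge_of_int hb h2
      rw [abs_mul, abs_of_nonneg (by linarith : 0 ≤ D)] at e2 h2
      rw [ht] at h3 ⊢
      set u := |t|
      have : 1 ≤ (1 - u) ^ 2 + u ^ 2 * (D ^ 2 - 1) + (1 - u * D) ^ 2 := by
        have h4 : u * 3 ≤ u * D := mul_le_mul_of_nonneg_left hD hu
        nlinarith [sq_nonneg (u * D - 2 / 3)]
      linarith
    · rw [abs_mul, abs_of_nonneg (by linarith : 0 ≤ D), not_le] at h2
      rw [ht] at h3 ⊢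
      set u := |t|
      have : 1 ≤ (1 - u) ^ 2 + u ^ 2 * (D ^ 2 - 1) := by
        have h4 : u * 3 ≤ u * D := mul_le_mul_of_nonneg_left hD hu
        have h5 : u * D * 1 ≤ u * D * (u * D) := mul_le_mul_of_nonneg_left h2.le (by linarith)
        nlinarith
      nlinarith [sq_nonneg ((b : ℝ) - t * D)]
  · rw [not_le] at h1
    have : 1 ≤ t ^ 2 := by rw [ht]; nlinarith
    nlinarith [sq_nonneg ((b : ℝ) - t * D), sq_nonneg ((a : ℝ) - t)]

theorem lemD0 {I : Type*} [Fintype I] {p n : ℕ} (hp : p.Prime) (hp2 : p ≠ 2) (d : I → ℕ)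
    (hd : ∀ i, ∃ j, d i = p ^ j) (hs : ∑ i, d i ^ 2 = p ^ n) (i0 : I) (h0 : d i0 = 1) (m : I → ℤ)
    (hk : ∀ i, i ≠ i0 → d i = 1 → m i = 0) (hm : m i0 ≠ 0) (t : ℝ) :
    ((p ^ n : ℕ) : ℝ) - 1 ≤ (p ^ n : ℕ) * ∑ i, ((m i : ℝ) - t * d i) ^ 2 := by
  classical
  have hh : (1 : ℝ) ≤ (p ^ n : ℕ) := by exact_mod_cast Nat.one_le_pow _ _ hp.pos
  have key : ∀ S : Finset I, i0 ∈ S → (∀ i ∈ S, i ≠ i0 → m i = 0) →
      ∑ i ∈ S, ((m i : ℝ) - t * d i) ^ 2 =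
        ((m i0 : ℝ) - t) ^ 2 + t ^ 2 * (((∑ i ∈ S, d i ^ 2 : ℕ) : ℝ) - 1) := by
    intro S hS hS'
    rw [← add_sum_erase S _ hS, ← add_sum_erase S _ hS, h0]
    push_cast
    rw [mul_one, add_sub_cancel_left, mul_sum]
    congr 1
    refine sum_congr rfl fun i hi => ?_
    rw [hS' i (mem_of_mem_erase hi) (ne_of_mem_erase hi)]
    push_cast
    ring
  by_cases hall : ∀ i, i ≠ i0 → m i = 0
  · rw [key univ (mem_univ _) fun i _ => hall i, hs]
    have h1 : (1 : ℝ) ≤ (m i0 : ℝ) ^ 2 := by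
      have := Int.one_le_abs hm
      have h2 : 1 ≤ m i0 ^ 2 := by nlinarith [sq_abs (m i0)]
      exact_mod_cast h2
    set h : ℝ := ((p ^ n : ℕ) : ℝ)
    nlinarith [sq_nonneg (h * t - m i0), mul_le_mul_of_nonneg_left h1 (sub_nonneg.2 hh)]
  push Not at hall
  obtain ⟨i1, hi1, hmin⟩ := exists_min_image (univ.filter fun i => i ≠ i0 ∧ m i ≠ 0) d
    (by obtain ⟨i, hi⟩ := hall; exact ⟨i, mem_filter.2 ⟨mem_univ _, hi⟩⟩)
  obtain ⟨h10, hm1⟩ := (mem_filter.1 hi1).2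
  obtain ⟨j, hj⟩ := hd i1
  have hj0 : j ≠ 0 := fun e => hm1 (hk i1 h10 (by rw [hj, e, pow_zero]))
  have hD : 3 ≤ d i1 := by
    have := hp.two_le
    calc 3 ≤ p := by omega
      _ ≤ p ^ j := Nat.le_self_pow hj0 p
      _ = _ := hj.symm
  set S := univ.filter fun i => d i < d i1 with hS
  have hi0 : i0 ∈ S := mem_filter.2 ⟨mem_univ _, by omega⟩
  have hA : d i1 ^ 2 ≤ ∑ i ∈ S, d i ^ 2 := by
    refine Nat.le_of_dvd (lt_of_lt_of_le (by rw [h0]; norm_num)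
      (single_le_sum (f := fun i => d i ^ 2) (fun _ _ => Nat.zero_le _) hi0)) ?_
    have e1 := sum_filter_add_sum_filter_not univ (fun i => d i < d i1) fun i => d i ^ 2
    have e2 : d i1 ^ 2 ∣ p ^ n := by
      have := single_le_sum (f := fun i => d i ^ 2) (fun _ _ => Nat.zero_le _) (mem_univ i1)
      rw [hs, hj, ← pow_mul] at this
      rw [hj, ← pow_mul]
      exact pow_dvd_pow _ ((Nat.pow_le_pow_iff_right hp.one_lt).1 this)
    have e3 : d i1 ^ 2 ∣ ∑ i ∈ univ.filter fun i => ¬ d i < d i1, d i ^ 2 := by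
      refine dvd_sum fun i hi => pow_dvd_pow_of_dvd ?_ 2
      obtain ⟨k, hk⟩ := hd i
      have := not_lt.1 (mem_filter.1 hi).2
      rw [hj, hk] at this ⊢
      exact pow_dvd_pow _ ((Nat.pow_le_pow_iff_right hp.one_lt).1 this)
    rw [← hs, ← e1] at e2
    exact (Nat.dvd_add_left e3).1 e2
  have h1 : ∑ i ∈ insert i1 S, ((m i : ℝ) - t * d i) ^ 2 ≤ ∑ i, ((m i : ℝ) - t * d i) ^ 2 :=
    sum_le_sum_of_subset_of_nonneg (subset_univ _) fun _ _ _ => sq_nonneg _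
  rw [sum_insert (by simp [hS]), key S hi0 fun i hi hi' => by
    by_contra hne
    exact absurd (hmin i (mem_filter.2 ⟨mem_univ _, hi', hne⟩)) (not_le.2 (mem_filter.1 hi).2)] at h1
  have h2 := three_terms hm hm1 (t := t) (D := d i1) (A := ((∑ i ∈ S, d i ^ 2 : ℕ) : ℝ))
    (by exact_mod_cast hD) (by exact_mod_cast hA)
  nlinarith

theorem lemD {I : Type*} [Fintype I] {p n : ℕ} (hp : p.Prime) (hp2 : p ≠ 2) (d : I → ℕ)
    (hd : ∀ i, ∃ j, d i = p ^ j) (hs : ∑ i, d i ^ 2 = p ^ n) (i0 : I) (h0 : d i0 = 1) (m : I → ℤ)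
    (k : ℤ) (hk : ∀ i, i ≠ i0 → d i = 1 → m i = k) (hm : m i0 ≠ k) (t : ℝ) :
    ((p ^ n : ℕ) : ℝ) - 1 ≤ (p ^ n : ℕ) * ∑ i, ((m i : ℝ) - t * d i) ^ 2 := by
  have := lemD0 hp hp2 d hd hs i0 h0 (fun i => m i - k * d i)
    (fun i h1 h2 => by rw [hk i h1 h2, h2]; simp) (by rw [h0]; simpa [sub_eq_zero] using hm) (t - k)
  convert this using 3 with i
  push_cast
  ring

theorem lemE {I : Type*} (Λ V W : Finset I) (hV : V ⊆ Λ) (hW : W ⊆ Λ) {e : ℕ} (he1 : e ≤ V.card)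
    (he2 : e ≤ W.card) (m : I → ℤ) {u : ℤ} (hu : ∀ i ∈ V, m i = u) (hw : ∀ i ∈ W, m i ≠ u) (t : ℝ) :
    (e : ℝ) * (Λ.card - e) ≤ Λ.card * ∑ i ∈ Λ, ((m i : ℝ) - t) ^ 2 := by
  classical
  have e1 := sum_filter_add_sum_filter_not Λ (fun i => m i = u) fun i => ((m i : ℝ) - t) ^ 2
  have e2 := card_filter_add_card_filter_not (s := Λ) (fun i => m i = u)
  have h1 : e ≤ (Λ.filter fun i => m i = u).card :=
    he1.trans (card_le_card fun i hi => mem_filter.2 ⟨hV hi, hu i hi⟩)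
  have h2 : e ≤ (Λ.filter fun i => ¬ m i = u).card :=
    he2.trans (card_le_card fun i hi => mem_filter.2 ⟨hW hi, hw i hi⟩)
  have e3 : ∑ i ∈ Λ.filter (fun i => m i = u), ((m i : ℝ) - t) ^ 2 =
      (Λ.filter fun i => m i = u).card * |t - u| ^ 2 := by
    rw [sum_congr rfl (g := fun _ => |t - u| ^ 2) fun i hi => by
      rw [(mem_filter.1 hi).2, sq_abs]; ring, sum_const, nsmul_eq_mul]
  rw [← e1, e3, ← e2]
  push_cast
  have h1' : (e : ℝ) ≤ (Λ.filter fun i => m i = u).card := by exact_mod_cast h1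
  have h2' : (e : ℝ) ≤ (Λ.filter fun i => ¬ m i = u).card := by exact_mod_cast h2
  have he : (0 : ℝ) ≤ e := Nat.cast_nonneg e
  have h0 : 0 ≤ ∑ i ∈ Λ.filter (fun i => ¬ m i = u), ((m i : ℝ) - t) ^ 2 :=
    sum_nonneg fun _ _ => sq_nonneg _
  have hs0 := abs_nonneg (t - u)
  by_cases hs : |t - u| ≤ 1
  · have h3 : ((Λ.filter fun i => ¬ m i = u).card : ℝ) * (1 - |t - u|) ^ 2 ≤
        ∑ i ∈ Λ.filter (fun i => ¬ m i = u), ((m i : ℝ) - t) ^ 2 := by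
      rw [← nsmul_eq_mul, ← sum_const]
      refine sum_le_sum fun i hi => ?_
      have := sq_ge_of_int (sub_ne_zero.2 (mem_filter.1 hi).2) hs
      push_cast at this
      rwa [show (m i : ℝ) - u - (t - u) = m i - t by ring] at this
    set N : ℝ := ((Λ.filter fun i => m i = u).card : ℝ)
    set M : ℝ := ((Λ.filter fun i => ¬ m i = u).card : ℝ)
    set s := |t - u|
    have h4 : N * M ≤ (N + M) * (N * s ^ 2 + M * (1 - s) ^ 2) := by
      nlinarith [sq_nonneg (N * s - M * (1 - s))]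
    have h5 : e * (N + M - e) ≤ N * M := by
      nlinarith [mul_nonneg (sub_nonneg.2 h1') (sub_nonneg.2 h2')]
    have h6 := mul_le_mul_of_nonneg_left h3 (show 0 ≤ N + M by linarith)
    nlinarith
  · rw [not_le] at hs
    set N : ℝ := ((Λ.filter fun i => m i = u).card : ℝ)
    set M : ℝ := ((Λ.filter fun i => ¬ m i = u).card : ℝ)
    set s := |t - u|
    have h4 : 1 ≤ s ^ 2 := by nlinarith
    have h5 : e ≤ N * s ^ 2 := by nlinarith
    have h6 := mul_le_mul_of_nonneg_left (add_le_add h5 h0) (show 0 ≤ N + M by linarith)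
    nlinarith

theorem fin_num {e a b : ℝ} (h : (4 ≤ e ∧ 2 * e + 1 ≤ a ∧ a + 1 ≤ b) ∨ (e = 3 ∧ 7 ≤ a ∧ 10 ≤ b)) :
    1 / e + (e - 1) / b + e / a ≤ 1 := by
  rcases h with ⟨h1, h2, h3⟩ | ⟨rfl, h2, h3⟩
  · have e1 : (e - 1) / b ≤ (e - 1) / (2 * e + 2) :=
      div_le_div_of_nonneg_left (by linarith) (by linarith) (by linarith)
    have e2 : e / a ≤ e / (2 * e + 1) :=
      div_le_div_of_nonneg_left (by linarith) (by linarith) (by linarith)
    have e3 : 1 / e + (e - 1) / (2 * e + 2) + e / (2 * e + 1) ≤ 1 := by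
      rw [div_add_div _ _ (by linarith) (by linarith), div_add_div _ _ (by positivity) (by linarith),
        div_le_one (by positivity)]
      nlinarith
    linarith
  · have e1 : ((3 : ℝ) - 1) / b ≤ (3 - 1) / 10 :=
      div_le_div_of_nonneg_left (by linarith) (by linarith) (by linarith)
    have e2 : 3 / a ≤ 3 / 7 := div_le_div_of_nonneg_left (by linarith) (by linarith) (by linarith)
    linarith

end Cfsg.Agent.EPO
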