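import Cfsg.Agent.Lib.AIC.Char
import Cfsg.Agent.Lib.Nine.A

/-!
# T.I. subgroups with Frobenius normaliser: induced linear characters
-/

set_option autoImplicit false
set_option linter.unusedSectionVars false

open Cfsg
open scoped ComplexConjugate Classical

namespace Cfsg.Agent.EPO

open Cfsg.Agent.Char Finset

universe u

variable {G : Type u} [Group G]

/-- the normaliser -/
abbrev NN (H : Subgroup G) : Subgroup G := Subgroup.normalizer (H : Set G)

/-- `H` is a T.I. subgroup containing the centralisers in `N(H)` of its non-trivial elements -/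
structure TF (H : Subgroup G) : Prop where
  ti : ∀ x ∈ H, x ≠ 1 → ∀ g : G, g * x * g⁻¹ ∈ H → g ∈ NN H
  fpf : ∀ l ∈ NN H, ∀ x ∈ H, x ≠ 1 → l * x = x * l → l ∈ H

/-- `|N(H) : H|` -/
noncomputable def ee (H : Subgroup G) : ℕ := (H.subgroupOf (NN H)).index

theorem card_mul_ee (H : Subgroup G) : Nat.card H * ee H = Nat.card (NN H) := by
  rw [← Nat.card_congr (Subgroup.subgroupOfEquivOfLe Subgroup.le_normalizer).toEquiv]
  exact Subgroup.card_mul_index _

variable {H : Subgroup G}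

/-- conjugation on `H` -/
def cj (l : NN H) : H →* H where
  toFun x := ⟨(l : G)⁻¹ * x * l, (Subgroup.mem_normalizer_iff''.1 l.2 x).1 x.2⟩
  map_one' := Subtype.ext (by simp)
  map_mul' a b := Subtype.ext (by simp [mul_assoc])

theorem coe_cj (l : NN H) (x : H) : (cj l x : G) = (l : G)⁻¹ * x * l := rfl

theorem comp_cj_mul (θ : H →* ℂˣ) (a b : NN H) :
    (θ.comp (cj b)).comp (cj a) = θ.comp (cj (a * b)) := by
  ext x
  have : cj b (cj a x) = cj (a * b) x := Subtype.ext (by simp [coe_cj, mul_assoc])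
  simp [this]

theorem comp_cj_of_mem (θ : H →* ℂˣ) {a : NN H} (ha : (a : G) ∈ H) : θ.comp (cj a) = θ := by
  ext x
  have : cj a x = (⟨a, ha⟩ : H)⁻¹ * x * ⟨a, ha⟩ := rfl
  simp only [MonoidHom.comp_apply, this, map_mul, map_inv]
  rw [mul_comm, ← mul_assoc, mul_inv_cancel, one_mul]

theorem inv_comp_cj (θ : H →* ℂˣ) (a : NN H) : θ⁻¹.comp (cj a) = (θ.comp (cj a))⁻¹ := rfl

/-- conjugate linear characters -/
def Orb (l m : H →* ℂˣ) : Prop := ∃ a : NN H, l = m.comp (cj a)

theorem Orb.refl (l : H →* ℂˣ) : Orb l l := ⟨1, (comp_cj_of_mem l (one_mem H)).symm⟩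

theorem Orb.symm {l m : H →* ℂˣ} (h : Orb l m) : Orb m l := by
  obtain ⟨a, rfl⟩ := h
  exact ⟨a⁻¹, by rw [comp_cj_mul, inv_mul_cancel]; exact (comp_cj_of_mem m (one_mem H)).symm⟩

theorem Orb.trans {l m n : H →* ℂˣ} (h : Orb l m) (h' : Orb m n) : Orb l n := by
  obtain ⟨a, rfl⟩ := h
  obtain ⟨b, rfl⟩ := h'
  exact ⟨_, comp_cj_mul _ _ _⟩

theorem Orb.inv {l m : H →* ℂˣ} (h : Orb l m) : Orb l⁻¹ m⁻¹ := by
  obtain ⟨a, rfl⟩ := h
  exact ⟨a, rfl⟩

theorem orb_inv {l m : H →* ℂˣ} : Orb l⁻¹ m⁻¹ ↔ Orb l m :=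
  ⟨fun h => by simpa only [hom_inv_inv] using h.inv, Orb.inv⟩

theorem orb_comm {l m : H →* ℂˣ} : Orb l m ↔ Orb m l := ⟨Orb.symm, Orb.symm⟩

theorem Orb.eq_one {l : H →* ℂˣ} (h : Orb l 1) : l = 1 := by
  obtain ⟨a, rfl⟩ := h
  rfl

theorem Orb.ne_one {l m : H →* ℂˣ} (h : Orb l m) (hm : m ≠ 1) : l ≠ 1 := fun e =>
  hm (by rw [e] at h; exact h.symm.eq_one)

theorem inv_ne_one' {l : H →* ℂˣ} (h : l ≠ 1) : l⁻¹ ≠ 1 := fun e => h (by
  rw [← hom_inv_inv l, e]; rfl)

/-- a linear character as a function -/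
def lc (l : H →* ℂˣ) : H → ℂ := fun x => (l x : ℂ)

theorem lc_one : lc (1 : H →* ℂˣ) = 1 := rfl

variable [Fintype G]

theorem TF.stab (h : TF H) {θ : H →* ℂˣ} (hθ : θ ≠ 1) {a : NN H} (e : θ.comp (cj a) = θ) :
    (a : G) ∈ H := by
  by_contra ha
  let F : H → H := fun x => x⁻¹ * cj a x
  have hF : Function.Injective F := by
    intro x y hxy
    have e2 : cj a (x * y⁻¹) = x * y⁻¹ := by
      rw [map_mul, map_inv, mul_inv_eq_iff_eq_mul, mul_assoc, ← show x⁻¹ * cj a x = y⁻¹ * cj a y from hxy,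
        mul_inv_cancel_left]
    by_contra hne
    refine ha (h.fpf a a.2 _ (x * y⁻¹).2 (fun e3 => hne (mul_inv_eq_one.1 (Subtype.ext e3))) ?_)
    have e3 := congrArg Subtype.val e2
    rw [coe_cj, mul_assoc, inv_mul_eq_iff_eq_mul] at e3
    exact e3.symm
  refine hθ (MonoidHom.ext fun y => ?_)
  obtain ⟨x, rfl⟩ := Finite.surjective_of_injective hF y
  have := DFunLike.congr_fun e x
  rw [MonoidHom.comp_apply] at this
  rw [map_mul, this, map_inv, inv_mul_cancel, MonoidHom.one_apply]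

theorem TF.not_orb_inv (h : TF H) (hodd : Odd (Nat.card G)) {θ : H →* ℂˣ} (hθ : θ ≠ 1) :
    ¬ Orb θ θ⁻¹ := by
  rintro ⟨a, ha⟩
  have h1 : θ.comp (cj (a * a)) = θ := by
    rw [← comp_cj_mul]
    have : θ.comp (cj a) = θ⁻¹ := by
      rw [← hom_inv_inv (θ.comp (cj a)), ← inv_comp_cj, ← ha]
    rw [this, ← ha]
  have h2 := h.stab hθ h1
  have h3 : (a : G) ∈ H := by
    obtain ⟨k, hk⟩ := hodd
    have : (a : G) = ((a : G) * a) ^ (k + 1) := by
      rw [← pow_two, ← pow_mul, show 2 * (k + 1) = Nat.card G + 1 by omega, pow_succ,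
        pow_card_eq_one', one_mul]
    rw [this]
    exact pow_mem h2 _
  rw [comp_cj_of_mem _ h3, hom_eq_inv_self_iff] at ha
  exact hθ (unitsHom_eq_one_of_sq_of_odd (hodd.of_dvd_nat (Subgroup.card_subgroup_dvd_card H)) ha)

theorem card_filter_mem :
    ((univ : Finset (NN H)).filter fun a : NN H => (a : G) ∈ H).card = Nat.card H := by
  rw [← Nat.card_congr (Subgroup.subgroupOfEquivOfLe (H := H) (K := NN H)
    Subgroup.le_normalizer).toEquiv, Nat.card_eq_fintype_card, Fintype.card_subtype]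
  congr 1

theorem TF.card_filter (h : TF H) (l : H →* ℂˣ) {m : H →* ℂˣ} (hm : m ≠ 1) :
    ((univ : Finset (NN H)).filter fun a => l = m.comp (cj a)).card =
      if Orb l m then Nat.card H else 0 := by
  split_ifs with ho
  · obtain ⟨b, rfl⟩ := ho
    rw [← card_filter_mem]
    refine card_bij (fun a _ => b⁻¹ * a) (fun a ha => mem_filter.2 ⟨mem_univ _, h.stab hm ?_⟩)
      (fun a _ c _ e => mul_left_cancel e) fun c hc => ⟨b * c, mem_filter.2 ⟨mem_univ _, ?_⟩, by simp⟩
    · rw [← comp_cj_mul, ← (mem_filter.1 ha).2, comp_cj_mul, inv_mul_cancel]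
      exact comp_cj_of_mem m (one_mem H)
    · rw [← comp_cj_mul, comp_cj_of_mem m (mem_filter.1 hc).2]
  · rw [card_eq_zero, filter_eq_empty_iff]
    exact fun a _ e => ho ⟨a, e⟩

/-- the orbit of a linear character -/
noncomputable def orb (m : H →* ℂˣ) : Finset (H →* ℂˣ) :=
  (Set.toFinite {l | Orb l m}).toFinset

theorem mem_orb {l m : H →* ℂˣ} : l ∈ orb m ↔ Orb l m := by simp [orb]

theorem TF.card_orb (h : TF H) {m : H →* ℂˣ} (hm : m ≠ 1) : (orb m).card = ee H := by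
  have h1 := card_eq_sum_card_fiberwise (s := (univ : Finset (NN H))) (t := orb m)
    (f := fun a => m.comp (cj a)) fun a _ => mem_orb.2 ⟨a, rfl⟩
  rw [sum_congr rfl (g := fun _ => Nat.card H) fun l hl => by
    have := h.card_filter l hm
    rw [if_pos (mem_orb.1 hl)] at this
    rw [← this]
    congr 1
    ext a
    simp [eq_comm], sum_const, smul_eq_mul, card_univ, ← Nat.card_eq_fintype_card,
    ← card_mul_ee, mul_comm] at h1
  exact (Nat.eq_of_mul_eq_mul_right Nat.card_pos h1).symm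

/-- the multiplicity function -/
noncomputable def dl (l m : H →* ℂˣ) : ℂ :=
  (Nat.card H : ℂ)⁻¹ * ∑ a : NN H, if l = m.comp (cj a) then 1 else 0

theorem TF.dl_eq (h : TF H) (l : H →* ℂˣ) {m : H →* ℂˣ} (hm : m ≠ 1) :
    dl l m = if Orb l m then 1 else 0 := by
  rw [dl, sum_boole, h.card_filter l hm]
  split_ifs
  · exact inv_mul_cancel₀ natCard_ne_zero
  · simp

theorem dl_one_one : dl (1 : H →* ℂˣ) 1 = ee H := by
  rw [dl, sum_congr rfl (g := fun _ => (1 : ℂ)) fun a _ =>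
      if_pos (show (1 : H →* ℂˣ) = MonoidHom.comp 1 (cj a) from rfl), sum_const, card_univ,
    ← Nat.card_eq_fintype_card, ← card_mul_ee, nsmul_eq_mul, mul_one, Nat.cast_mul,
    inv_mul_cancel_left₀ natCard_ne_zero]

theorem dl_one {l : H →* ℂˣ} (hl : l ≠ 1) : dl l 1 = 0 := by
  rw [dl, sum_congr rfl (g := fun _ => (0 : ℂ)) fun a _ =>
    if_neg (show ¬ l = MonoidHom.comp 1 (cj a) from hl)]
  simp

theorem TF.indFun_apply (h : TF H) {β : H → ℂ} (hβ : β 1 = 0) (x : H) :
    indFun H β x = (Nat.card H : ℂ)⁻¹ * ∑ a : NN H, β (cj a x) := by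
  rw [indFun]
  congr 1
  rw [← sum_subset (subset_univ (univ.filter (· ∈ NN H))),
    sum_subtype (p := (· ∈ NN H)) _ (by simp)]
  · exact sum_congr rfl fun g _ => extendByZero_coe _ β (cj g x)
  · intro g _ hg
    simp only [mem_filter, mem_univ, true_and] at hg
    by_cases hm : g⁻¹ * x * g ∈ H
    · have h2 : (x : G) = 1 := by
        by_contra h1
        exact hg (by simpa using inv_mem (h.ti x x.2 h1 g⁻¹ (by simpa using hm)))
      rw [extendByZero_of_mem _ _ hm, ← hβ]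
      congr 1
      exact Subtype.ext (by simp [h2])
    · exact extendByZero_of_notMem _ _ hm

/-- the induced difference of two linear characters -/
noncomputable def al (l m : H →* ℂˣ) : G → ℂ := indFun H (lc l - lc m)

theorem al_gen (l m : H →* ℂˣ) : IsGeneralizedCharacter G (al l m) :=
  isGen_indFun H (isGen_sub (isGen_of_irr (isIrr_unitsHom l)) (isGen_of_irr (isIrr_unitsHom m)))

theorem al_one (l m : H →* ℂˣ) : al l m 1 = 0 := by
  rw [al, indFun_apply_one]; simp [lc]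

theorem al_add (l m n : H →* ℂˣ) : al l m + al m n = al l n := by
  rw [al, al, al, ← indFun_add, sub_add_sub_cancel]

theorem al_conj (l m : H →* ℂˣ) : (fun g => conj (al l m g)) = al l⁻¹ m⁻¹ := by
  rw [al, indFun_conj, al]
  congr 1
  funext x
  simp only [Pi.sub_apply, lc, map_sub, conj_unitsHom]

theorem al_eq_zero (l m : H →* ℂˣ) {g : G} (hg : ∀ x : G, x⁻¹ * g * x ∉ H) : al l m g = 0 :=
  indFun_eq_zero H _ hg

theorem TF.inner_al (h : TF H) (l m l' m' : H →* ℂˣ) :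
    classInner (al l m) (al l' m') = dl l l' - dl l m' - (dl m l' - dl m m') := by
  rw [al, inner_indFun_left _ _ (isClass_of_isGen (al_gen _ _))]
  have e : (fun x : H => al l' m' x) =
      (Nat.card H : ℂ)⁻¹ • ∑ g : NN H, ((fun x => (l'.comp (cj g) x : ℂ)) -
        fun x => (m'.comp (cj g) x : ℂ)) := by
    funext x
    rw [al, h.indFun_apply (by simp [lc])]
    simp [Finset.sum_apply, lc]
  rw [e, Char.inner_smul_right, inner_sum_right]
  unfold lc
  simp only [Char.inner_sub_left, Char.inner_sub_right, inner_unitsHom, map_inv₀, map_natCast, dl,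
    ← mul_sub, ← sum_sub_distrib]
  congr 1
  exact sum_congr rfl fun g _ => by ring_nf

/-- multiplicity of a linear character of `H` -/
noncomputable def mu (χ : G → ℂ) (l : H →* ℂˣ) : ℂ := classInner (fun x : H => χ x) (lc l)

theorem inner_al_right {χ : G → ℂ} (hχ : IsClassFunction G χ) (l m : H →* ℂˣ) :
    classInner χ (al l m) = mu χ l - mu χ m := by
  rw [al, inner_indFun_right _ _ hχ, Char.inner_sub_right, mu, mu]

theorem TF.al_of_orb (h : TF H) {l m : H →* ℂˣ} (hm : m ≠ 1) (ho : Orb l m) : al l m = 0 := by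
  apply eq_zero_of_inner_self
  rw [h.inner_al, h.dl_eq _ hm, h.dl_eq _ hm, h.dl_eq _ (ho.ne_one hm), h.dl_eq _ (ho.ne_one hm),
    if_pos (Orb.refl _), if_pos (Orb.refl _), if_pos ho, if_pos ho.symm]
  ring

theorem TF.mu_of_orb (h : TF H) {χ : G → ℂ} (hχ : IsClassFunction G χ) {l m : H →* ℂˣ} (hm : m ≠ 1)
    (ho : Orb l m) : mu χ l = mu χ m := by
  rw [← sub_eq_zero, ← inner_al_right hχ, h.al_of_orb hm ho, Char.inner_zero_right]

theorem TF.norm_two (h : TF H) {l m : H →* ℂˣ} (hl : l ≠ 1) (hm : m ≠ 1) (ho : ¬ Orb l m) :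
    classInner (al l m) (al l m) = 2 := by
  rw [h.inner_al, h.dl_eq _ hm, h.dl_eq _ hm, h.dl_eq _ hl, h.dl_eq _ hl,
    if_pos (Orb.refl _), if_pos (Orb.refl _), if_neg ho, if_neg (fun e => ho e.symm)]
  ring

theorem TF.norm_beta (h : TF H) {l : H →* ℂˣ} (hl : l ≠ 1) :
    classInner (al 1 l) (al 1 l) = ee H + 1 := by
  rw [h.inner_al, dl_one_one, dl_one hl, h.dl_eq _ hl, h.dl_eq _ hl, if_pos (Orb.refl _),
    if_neg (fun e => hl e.symm.eq_one)]
  ring

theorem one_inner_beta {l : H →* ℂˣ} (hl : l ≠ 1) : classInner (1 : G → ℂ) (al 1 l) = 1 := by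
  rw [inner_al_right isClass_one]
  have h1 := inner_unitsHom (1 : H →* ℂˣ) 1
  have h2 := inner_unitsHom (1 : H →* ℂˣ) l
  rw [if_pos rfl] at h1
  rw [if_neg hl.symm] at h2
  change classInner (fun g => ((1 : H →* ℂˣ) g : ℂ)) (fun g => ((1 : H →* ℂˣ) g : ℂ)) -
    classInner (fun g => ((1 : H →* ℂˣ) g : ℂ)) (fun g => (l g : ℂ)) = 1
  rw [h1, h2, sub_zero]

/-- complex conjugate of a function -/
noncomputable def cc (χ : G → ℂ) : G → ℂ := fun g => conj (χ g)

omit [Fintype G] in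
theorem cc_cc (χ : G → ℂ) : cc (cc χ) = χ := by
  funext g; simp [cc]

theorem TF.exists_X (h : TF H) (hodd : Odd (Nat.card G)) {l : H →* ℂˣ} (hl : l ≠ 1) :
    ∃ χ : IrrCharacter G, χ.1 ≠ cc χ.1 ∧ al l l⁻¹ = χ.1 - cc χ.1 := by
  obtain ⟨a, b, ha, hb, hab, e⟩ := AIC.exists_sub_of_norm_two (al_gen l l⁻¹)
    (h.norm_two hl (inv_ne_one' hl) (h.not_orb_inv hodd hl)) (al_one _ _)
  have h1 : cc a - cc b = b - a := by
    have h2 := al_conj l l⁻¹
    have h3 := al_add l l⁻¹ l
    rw [h.al_of_orb hl (Orb.refl l)] at h3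
    rw [hom_inv_inv, eq_neg_of_add_eq_zero_right h3, e] at h2
    rw [← neg_sub a b, ← h2]
    funext g
    simp [cc]
  have h4 : cc a = b := by
    have h5 := congrArg (fun f => classInner f b) h1
    simp only [Char.inner_sub_left] at h5
    rw [inner_irr_self hb, inner_irr_ne ha hb hab, inner_irr (χ := cc a) (isIrr_conj ha) hb,
      inner_irr (χ := cc b) (isIrr_conj hb) hb] at h5
    by_contra hne
    rw [if_neg hne] at h5
    split_ifs at h5 <;> norm_num at h5
  exact ⟨⟨a, ha⟩, h4 ▸ hab, h4 ▸ e⟩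

/-- a virtual character of norm two orthogonal to `χ - χ̄` is orthogonal to `χ` -/
theorem orth_of_norm_two {f : G → ℂ} (hf : IsGeneralizedCharacter G f) (h2 : classInner f f = 2)
    (h1 : f 1 = 0) {χ : G → ℂ} (hχ : IsIrrCharacter G χ) (hne : χ ≠ cc χ)
    (ho : classInner (χ - cc χ) f = 0) : classInner χ f = 0 := by
  obtain ⟨a, b, ha, hb, hab, rfl⟩ := AIC.exists_sub_of_norm_two hf h2 h1
  have hχ' : IsIrrCharacter G (cc χ) := isIrr_conj hχ
  rw [Char.inner_sub_left, Char.inner_sub_right, Char.inner_sub_right, inner_irr hχ ha,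
    inner_irr hχ hb, inner_irr hχ' ha, inner_irr hχ' hb] at ho
  rw [Char.inner_sub_right, inner_irr hχ ha, inner_irr hχ hb]
  by_cases e1 : χ = a
  · rw [if_pos e1, if_neg (fun e => hab (e1.symm.trans e)), if_neg (fun e => hne (e1.trans e.symm))] at ho
    split_ifs at ho <;> norm_num at ho
  by_cases e2 : χ = b
  · rw [if_neg e1, if_pos e2, if_neg (fun e : cc χ = b => hne (e2.trans e.symm))] at ho
    split_ifs at ho <;> norm_num at ho
  rw [if_neg e1, if_neg e2, sub_zero]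

/-- parity of the principal multiplicity of a real virtual character -/
theorem real_par (hodd : Odd (Nat.card G)) {f : G → ℂ} (hf : IsGeneralizedCharacter G f)
    (hr : cc f = f) {n d : ℤ} (hn : classInner f 1 = n) (hd : f 1 = d) : n % 2 = d % 2 := by
  let e := Fintype.equivFin G
  have hinv : ∀ g, f g⁻¹ = f g := fun g => by rw [gen_inv hf]; exact congrFun hr g
  have h1 : ∑ g, f g = f 1 + 2 * ∑ g ∈ univ.filter (fun g => e g < e g⁻¹), f g := by
    rw [← sum_filter_add_sum_filter_not univ (fun g => e g < e g⁻¹),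
      ← sum_filter_add_sum_filter_not (univ.filter fun g => ¬ e g < e g⁻¹) (fun g => g = 1)]
    have e1 : (univ.filter fun g => ¬ e g < e g⁻¹).filter (fun g => g = 1) = {1} := by
      ext g
      simp only [mem_filter, mem_univ, true_and, mem_singleton]
      exact ⟨fun h => h.2, fun h => ⟨by rw [h, inv_one]; exact lt_irrefl _, h⟩⟩
    have e2 : ∑ g ∈ (univ.filter fun g => ¬ e g < e g⁻¹).filter (fun g => ¬ g = 1), f g =
        ∑ g ∈ univ.filter (fun g => e g < e g⁻¹), f g := by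
      refine sum_bij' (fun g _ => g⁻¹) (fun g _ => g⁻¹) (fun g hg => ?_) (fun g hg => ?_)
        (fun g _ => inv_inv g) (fun g _ => inv_inv g) fun g _ => (hinv g).symm
      · simp only [mem_filter, mem_univ, true_and, inv_inv] at hg ⊢
        refine lt_of_le_of_ne (not_lt.1 hg.1) fun h => hg.2 ?_
        have h2 : g⁻¹ = g := e.injective h
        have h3 : g ^ 2 = 1 := by rw [pow_two]; nth_rewrite 1 [← h2]; exact inv_mul_cancel g
        have h4 := Nat.dvd_gcd (orderOf_dvd_of_pow_eq_one h3) (orderOf_dvd_natCard g)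
        rw [(Nat.coprime_two_left.2 hodd).gcd_eq_one, Nat.dvd_one] at h4
        exact orderOf_eq_one_iff.1 h4
      · simp only [mem_filter, mem_univ, true_and, inv_inv] at hg ⊢
        refine ⟨not_lt.2 hg.le, fun h => ?_⟩
        rw [inv_eq_one.1 h, inv_one] at hg
        exact lt_irrefl _ hg
    rw [e1, e2, sum_singleton]
    ring
  rw [inner_one_right, inv_mul_eq_iff_eq_mul₀ natCard_ne_zero, h1, hd] at hn
  obtain ⟨c, hc⟩ := Nine.exists_int_of_two_mul (m := Nat.card G * n - d)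
    (IsIntegral.sum (s := univ.filter (fun g => e g < e g⁻¹)) f fun g _ => isIntegral_gen hf g)
    (by push_cast; rw [← hn]; ring)
  rw [hc] at hn
  have h2 : d + 2 * c = Nat.card G * n := by exact_mod_cast hn
  obtain ⟨k, hk⟩ := hodd
  rw [hk] at h2
  push_cast at h2
  have : d + 2 * c = 2 * (k * n) + n := by rw [h2]; ring
  omega

/-- the norm on the non-identity elements -/
theorem exists_norm {ψ : G → ℂ} (hψ : IsGeneralizedCharacter G ψ) [Fintype (IrrCharacter G)] :
    ∃ (m : IrrCharacter G → ℤ) (t : ℝ), (∀ θ : IrrCharacter G, classInner ψ θ = m θ) ∧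
      ∑ x ∈ univ.erase 1, ‖ψ x‖ ^ 2 = Nat.card G * ∑ θ, ((m θ : ℝ) - t * Nine.dg θ) ^ 2 := by
  obtain ⟨m, hm, h1⟩ := inner_self_int_sq hψ
  have hG : (0 : ℝ) < Nat.card G := by exact_mod_cast Nat.card_pos
  refine ⟨m, (∑ θ, (m θ : ℝ) * Nine.dg θ) / Nat.card G, hm, ?_⟩
  rw [inner_self_eq] at h1
  have h2 : (Nat.card G : ℝ)⁻¹ * ∑ g, ‖ψ g‖ ^ 2 = ∑ θ, (m θ : ℝ) ^ 2 := by exact_mod_cast h1
  rw [inv_mul_eq_iff_eq_mul₀ hG.ne', ← add_sum_erase _ _ (mem_univ 1)] at h2
  have h3 : ψ 1 = ((∑ θ, (m θ : ℝ) * Nine.dg θ : ℝ) : ℂ) := by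
    rw [class_apply_eq_sum_irr (isClass_of_isGen hψ)]
    push_cast
    exact sum_congr rfl fun θ _ => by rw [hm, Nine.apply_one]
  have h4 : ∑ θ : IrrCharacter G, (Nine.dg θ : ℝ) ^ 2 = Nat.card G := by
    have := sum_degree_sq (G := G)
    simp only [Nine.apply_one] at this
    exact_mod_cast this
  rw [h3, Complex.norm_real, Real.norm_eq_abs, sq_abs] at h2
  set s := ∑ θ, (m θ : ℝ) * Nine.dg θ with hs
  have h5 : ∑ θ, ((m θ : ℝ) - s / Nat.card G * Nine.dg θ) ^ 2 =
      ∑ θ, (m θ : ℝ) ^ 2 - 2 * (s / Nat.card G) * s + (s / Nat.card G) ^ 2 * Nat.card G := by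
    generalize s / Nat.card G = t
    rw [← h4, hs, mul_sum, mul_sum, ← sum_sub_distrib, ← sum_add_distrib]
    exact sum_congr rfl fun θ _ => by ring
  rw [h5, mul_add, mul_sub, ← h2]
  field_simp
  ring

end Cfsg.Agent.EPO
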