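import Cfsg.Agent.Lib.EPO.B
import Cfsg.Agent.Lib.EPO.C
import Cfsg.Agent.Lib.EPO.D

/-!
# Groups of odd order with all elements of prime power order are solvable
-/

set_option autoImplicit false
set_option linter.unusedSectionVars false

open Cfsg
open scoped ComplexConjugate Classical

namespace Cfsg.Agent.EPO

open Cfsg.Agent.Char Finset

universe u

variable {G : Type u} [Group G] [Fintype G]

/-- T.I. Sylow subgroup with Frobenius normaliser -/
structure SY (p : ℕ) (H : Subgroup G) : Prop where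
  prime : p.Prime
  tf : TF H
  pg : IsPGroup p H
  ne : H ≠ ⊥
  cov : ∀ x : G, ∀ k, x ^ p ^ k = 1 → ∃ g : G, g * x * g⁻¹ ∈ H
  nd : ¬ p ∣ ee H
  ne1 : ee H ≠ 1

/-- non-trivial `p`-elements -/
noncomputable def pel (G : Type u) [Group G] [Fintype G] (p : ℕ) : Finset G :=
  univ.filter fun y => y ≠ 1 ∧ ∃ k, y ^ p ^ k = 1

theorem mem_pel {p : ℕ} {y : G} : y ∈ pel G p ↔ y ≠ 1 ∧ ∃ k, y ^ p ^ k = 1 := by simp [pel]

/-- number of linear characters -/
noncomputable def aa (H : Subgroup G) : ℕ := Nat.card (H →* ℂˣ)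

/-- the exceptional characters -/
noncomputable def Fam (H : Subgroup G) : Finset (IrrCharacter G) :=
  (Set.toFinite {χ : IrrCharacter G | χ.1 ≠ cc χ.1 ∧
    ∃ l : H →* ℂˣ, l ≠ 1 ∧ al l l⁻¹ = χ.1 - cc χ.1}).toFinset

theorem mem_Fam {H : Subgroup G} {χ : IrrCharacter G} :
    χ ∈ Fam H ↔ χ.1 ≠ cc χ.1 ∧ ∃ l : H →* ℂˣ, l ≠ 1 ∧ al l l⁻¹ = χ.1 - cc χ.1 := by simp [Fam]

theorem ee_pos (H : Subgroup G) : 0 < ee H := Nat.pos_of_ne_zero Subgroup.FiniteIndex.index_ne_zero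

theorem ee_dvd (H : Subgroup G) : ee H ∣ Nat.card G :=
  (Dvd.intro_left _ (card_mul_ee H)).trans (Subgroup.card_subgroup_dvd_card _)

section One
variable {p : ℕ} {H : Subgroup G}

theorem TF.aa_le (h : TF H) (hodd : Odd (Nat.card G)) : aa H - 1 ≤ ee H * (Fam H).card := by
  have := Fintype.ofFinite (H →* ℂˣ)
  choose X hX using fun l : {l : H →* ℂˣ // l ≠ 1} => h.exists_X hodd l.2
  have h1 := card_le_mul_card_image_of_maps_to (s := univ) (t := Fam H) (f := X)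
    (fun l _ => mem_Fam.2 ⟨(hX l).1, l.1, l.2, (hX l).2⟩) (ee H) fun χ hχ => by
      obtain ⟨-, m, hm, e⟩ := mem_Fam.1 hχ
      rw [← h.card_orb hm]
      refine card_le_card_of_injOn (fun l => l.1) (fun l hl => mem_orb.2 ?_)
        (fun a _ b _ e => Subtype.ext e)
      have e1 : al l.1 l.1⁻¹ = al m m⁻¹ := by rw [(hX l).2, e, (mem_filter.1 hl).2]
      have e2 := h.norm_two hm (inv_ne_one' hm) (h.not_orb_inv hodd hm)
      nth_rewrite 1 [← e1] at e2
      rw [h.inner_al, h.dl_eq _ hm, h.dl_eq _ hm, h.dl_eq _ (inv_ne_one' hm),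
        h.dl_eq _ (inv_ne_one' hm)] at e2
      by_contra hne
      rw [if_neg hne, if_neg (fun e => hne (orb_inv.1 e))] at e2
      split_ifs at e2 <;> norm_num at e2
  rw [card_univ, Fintype.card_subtype_compl, Fintype.card_subtype_eq,
    ← Nat.card_eq_fintype_card] at h1
  exact h1

theorem TF.two_ee (h : TF H) (hodd : Odd (Nat.card G)) {l : H →* ℂˣ} (hl : l ≠ 1) :
    2 * ee H + 1 ≤ aa H := by
  have := Fintype.ofFinite (H →* ℂˣ)
  have h1 := card_le_univ (insert 1 (orb l ∪ orb l⁻¹))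
  rw [card_insert_of_notMem, card_union_of_disjoint, h.card_orb hl, h.card_orb (inv_ne_one' hl),
    ← Nat.card_eq_fintype_card] at h1
  · unfold aa; omega
  · exact disjoint_left.2 fun m h1 h2 =>
      h.not_orb_inv hodd hl ((mem_orb.1 h1).symm.trans (mem_orb.1 h2))
  · rw [mem_union, mem_orb, mem_orb]
    rintro (e | e)
    exacts [hl e.symm.eq_one, inv_ne_one' hl e.symm.eq_one]

/-- linear characters as irreducible characters -/
def io (l : H →* ℂˣ) : IrrCharacter H := ⟨lc l, isIrr_unitsHom l⟩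

theorem io_inj : Function.Injective (io (H := H)) := fun _ _ e => unitsHom_ext (congrArg Subtype.val e)

theorem dg_io (l : H →* ℂˣ) : Nine.dg (io l) = 1 := by
  have := Nine.apply_one (io l)
  have h1 : (io l).1 1 = 1 := by simp [io, lc]
  rw [h1] at this
  exact_mod_cast this.symm

theorem TF.norm_ge (h : TF H) (hodd : Odd (Nat.card G)) {l : H →* ℂˣ} (hl : l ≠ 1)
    {χ : IrrCharacter G} (hne : χ.1 ≠ cc χ.1) (e : al l l⁻¹ = χ.1 - cc χ.1) :
    (ee H : ℝ) * (aa H - ee H) * Nat.card H ≤ aa H * ∑ x ∈ (univ : Finset H).erase 1, ‖χ.1 x‖ ^ 2 := by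
  have := Fintype.ofFinite (H →* ℂˣ)
  have := Fintype.ofFinite (IrrCharacter H)
  obtain ⟨m, t, hm, e1⟩ := exists_norm (isGen_of_isChar (isChar_restrict H (isChar_of_irr χ.2)))
  replace e1 : ∑ x ∈ (univ : Finset H).erase 1, ‖χ.1 x‖ ^ 2 =
      Nat.card H * ∑ θ, ((m θ : ℝ) - t * Nine.dg θ) ^ 2 := by convert e1
  have hc := isClass_of_irr χ.2
  have hmu : ∀ k, mu χ.1 k = m (io k) := fun k => hm (io k)
  have h1 : mu χ.1 l - mu χ.1 l⁻¹ = 1 := by
    rw [← inner_al_right hc, e, Char.inner_sub_right, inner_irr_self χ.2,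
      inner_irr_ne χ.2 (ψ := cc χ.1) (isIrr_conj χ.2) hne, sub_zero]
  have h2 := lemE univ (orb l) (orb l⁻¹) (subset_univ _) (subset_univ _) (h.card_orb hl).ge
    (h.card_orb (inv_ne_one' hl)).ge (fun k => m (io k)) (u := m (io l))
    (fun k hk => by
      have := h.mu_of_orb hc hl (mem_orb.1 hk)
      rw [hmu, hmu] at this
      exact_mod_cast this)
    (fun k hk e => by
      have := h.mu_of_orb hc (inv_ne_one' hl) (mem_orb.1 hk)
      rw [← this, hmu, hmu, e, sub_self] at h1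
      exact zero_ne_one h1) t
  have h3 : ∑ k : H →* ℂˣ, ((m (io k) : ℝ) - t) ^ 2 ≤ ∑ θ, ((m θ : ℝ) - t * Nine.dg θ) ^ 2 := by
    calc _ = ∑ θ ∈ univ.image io, ((m θ : ℝ) - t * Nine.dg θ) ^ 2 := by
          rw [sum_image fun a _ b _ e => io_inj e]
          exact sum_congr rfl fun k _ => by rw [dg_io]; simp
      _ ≤ _ := sum_le_sum_of_subset_of_nonneg (subset_univ _) fun _ _ _ => sq_nonneg _
  rw [card_univ, ← Nat.card_eq_fintype_card] at h2
  rw [e1, mul_left_comm, mul_comm _ (Nat.card H : ℝ)]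
  refine mul_le_mul_of_nonneg_left (h2.trans ?_) (Nat.cast_nonneg _)
  exact mul_le_mul_of_nonneg_left h3 (Nat.cast_nonneg _)

namespace SY
variable (h : SY p H)
include h

theorem exists_lin : ∃ l : H →* ℂˣ, l ≠ 1 := by
  have := Fact.mk h.prime
  have := h.pg.isNilpotent
  have := (Subgroup.nontrivial_iff_ne_bot _).2 h.ne
  have h4 := Group.IsSolvable.commutator_lt_top_of_nontrivial (G := H)
  obtain ⟨x, -, hx⟩ := SetLike.exists_of_lt h4
  obtain ⟨θ, hθ⟩ := exists_unitsHom_ne_one (G := Abelianization H) (g := Abelianization.of x)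
    fun e => hx ((QuotientGroup.eq_one_iff x).1 e)
  exact ⟨θ.comp Abelianization.of, fun e => hθ (DFunLike.congr_fun e x)⟩

theorem aa_pow : ∃ k, k ≠ 0 ∧ aa H = p ^ k := by
  have := Fact.mk h.prime
  obtain ⟨n, hn⟩ := h.pg.exists_card_eq
  have h1 : IsPGroup p (H →* ℂˣ) := fun l => ⟨n, MonoidHom.ext fun x => by
    rw [MonoidHom.pow_apply, ← map_pow, ← hn, pow_card_eq_one', map_one, MonoidHom.one_apply]⟩
  obtain ⟨k, hk⟩ := h1.exists_card_eq
  refine ⟨k, fun e => ?_, hk⟩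
  obtain ⟨l, hl⟩ := h.exists_lin
  rw [e, pow_zero] at hk
  exact hl ((Nat.card_eq_one_iff_unique.1 hk).1.elim _ _)

theorem dvd : p ∣ Nat.card G := by
  have := Fact.mk h.prime
  obtain ⟨n, hn⟩ := h.pg.exists_card_eq
  refine Dvd.dvd.trans ?_ (Subgroup.card_subgroup_dvd_card H)
  rw [hn]
  refine dvd_pow_self p fun e => h.ne (Subgroup.eq_bot_of_card_eq _ ?_)
  rw [hn, e, pow_zero]

theorem ne_two (hodd : Odd (Nat.card G)) : p ≠ 2 := fun e =>
  (Nat.not_even_iff_odd.2 hodd) (even_iff_two_dvd.2 (e ▸ h.dvd))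

theorem norm_ge (hodd : Odd (Nat.card G)) {χ : G → ℂ} (hχ : IsCharacter G χ)
    (hc : ∀ l m : H →* ℂˣ, l ≠ 1 → m ≠ 1 → mu χ l = mu χ m) {l : H →* ℂˣ} (hl : l ≠ 1)
    (hne : mu χ (1 : H →* ℂˣ) ≠ mu χ l) :
    (Nat.card H : ℝ) - 1 ≤ ∑ x ∈ (univ : Finset H).erase 1, ‖χ x‖ ^ 2 := by
  have := Fact.mk h.prime
  have := Fintype.ofFinite (IrrCharacter H)
  obtain ⟨m, t, hm, e1⟩ := exists_norm (isGen_of_isChar (isChar_restrict H hχ))
  replace e1 : ∑ x ∈ (univ : Finset H).erase 1, ‖χ x‖ ^ 2 =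
      Nat.card H * ∑ θ, ((m θ : ℝ) - t * Nine.dg θ) ^ 2 := by convert e1
  have hmu : ∀ k, mu χ k = m (io k) := fun k => hm (io k)
  obtain ⟨n, hn⟩ := h.pg.exists_card_eq
  rw [e1, hn]
  refine lemD h.prime (h.ne_two hodd) Nine.dg (fun θ => ?_) ?_ (io 1) (dg_io 1) m (m (io l))
    (fun θ h1 h2 => ?_) (fun e => hne (by rw [hmu, hmu, e])) t
  · obtain ⟨j, -, hj⟩ := (Nat.dvd_prime_pow h.prime).1 (hn ▸ Nine.dg_dvd θ)
    exact ⟨j, hj⟩
  · have := sum_degree_sq (G := H)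
    simp only [Nine.apply_one] at this
    rw [← hn]
    exact_mod_cast this
  · obtain ⟨k, hk⟩ := exists_unitsHom_of_degree_one (Nine.ch θ) (by rw [Nine.apply_one, h2]; simp)
    have e : θ = io k := Subtype.ext hk
    have := hc k l (fun e' => h1 (by rw [e, e'])) hl
    rw [hmu, hmu] at this
    rw [e]
    exact_mod_cast this

theorem sum_pel (F : G → ℝ) (hF : ∀ g x, F (x * g * x⁻¹) = F g) :
    (∑ y ∈ pel G p, F y) * Nat.card (NN H) = Nat.card G * ∑ x ∈ (univ : Finset H).erase 1, F x := by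
  have e1 : Nat.card G * ∑ x ∈ (univ : Finset H).erase 1, F x =
      ∑ z ∈ (univ : Finset G) ×ˢ (univ : Finset H).erase 1, F (z.1 * z.2 * z.1⁻¹) := by
    rw [sum_product, Nat.card_eq_fintype_card, ← card_univ, ← nsmul_eq_mul, ← sum_const]
    exact sum_congr rfl fun x _ => sum_congr rfl fun g _ => (hF g x).symm
  rw [e1, ← sum_fiberwise_of_maps_to (t := pel G p) (g := fun z : G × H => z.1 * z.2 * z.1⁻¹), sum_mul]
  · refine sum_congr rfl fun y hy => ?_
    rw [sum_congr rfl (g := fun _ => F y) (fun z hz => by rw [(mem_filter.1 hz).2]), sum_const,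
      nsmul_eq_mul, mul_comm]
    congr 2
    obtain ⟨hy1, k, hk⟩ := mem_pel.1 hy
    obtain ⟨g, hg⟩ := h.cov y k hk
    have hg1 : g * y * g⁻¹ ≠ 1 := fun e => hy1 (by simpa using e)
    rw [Nat.card_eq_fintype_card, ← card_univ]
    refine card_bij (fun a _ => (g⁻¹ * a, cj a ⟨_, hg⟩)) ?_ ?_ ?_
    · intro a _
      refine mem_filter.2 ⟨mem_product.2 ⟨mem_univ _, mem_erase.2 ⟨fun e => hg1 ?_, mem_univ _⟩⟩, ?_⟩
      · have := congrArg Subtype.val e
        rw [coe_cj] at this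
        simpa [mul_assoc, inv_mul_eq_one, mul_eq_one_iff_eq_inv] using this
      · simp only [coe_cj]; group
    · intro a _ b _ e
      exact Subtype.ext (mul_left_cancel (congrArg Prod.fst e))
    · rintro ⟨x, z⟩ hz
      obtain ⟨hz1, hz2⟩ := mem_filter.1 hz
      have hz3 : (z : G) ≠ 1 := fun e => (mem_erase.1 (mem_product.1 hz1).2).1 (Subtype.ext e)
      simp only at hz2
      refine ⟨⟨g * x, h.tf.ti z z.2 hz3 _ ?_⟩, mem_univ _, Prod.ext (by simp) (Subtype.ext ?_)⟩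
      · rw [← hz2] at hg
        simpa [mul_assoc] using hg
      · simp only [coe_cj]; rw [← hz2]; group
  · rintro ⟨x, z⟩ hz
    have hz3 : (z : G) ≠ 1 := fun e => (mem_erase.1 (mem_product.1 hz).2).1 (Subtype.ext e)
    obtain ⟨k, hk⟩ := pow_of_mem h.pg z.2
    exact mem_pel.2 ⟨fun e => hz3 (by simpa using e), k, by rw [conj_pow, hk]; simp⟩

theorem al_support (l m : H →* ℂˣ) {g : G} (hg : g ∉ pel G p) : al l m g = 0 := by
  by_cases h1 : g = 1
  · rw [h1, al_one]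
  refine al_eq_zero l m fun x hx => hg (mem_pel.2 ⟨h1, ?_⟩)
  obtain ⟨k, hk⟩ := pow_of_mem h.pg hx
  refine ⟨k, ?_⟩
  have : (x⁻¹ * g * x⁻¹⁻¹) ^ p ^ k = 1 := by rw [inv_inv, hk]
  rw [conj_pow] at this
  simpa [mul_assoc, inv_mul_eq_one, mul_eq_one_iff_eq_inv] using this

end SY
end One

theorem pel_disjoint {p q : ℕ} (hp : p.Prime) (hq : q.Prime) (hne : p ≠ q) :
    Disjoint (pel G p) (pel G q) := disjoint_left.2 fun _ h1 h2 => by
  obtain ⟨h3, i, hi⟩ := mem_pel.1 h1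
  obtain ⟨-, j, hj⟩ := mem_pel.1 h2
  exact h3 (eq_one_of_two hp hq hne hi hj)

section Two
variable {p q : ℕ} {H K : Subgroup G} (h : SY p H) (h' : SY q K) (hne : p ≠ q)
include h h' hne

theorem al_orth (l m : H →* ℂˣ) (l' m' : K →* ℂˣ) : classInner (al l m) (al l' m') = 0 := by
  rw [classInner, sum_eq_zero, mul_zero]
  intro g _
  by_cases hg : g ∈ pel G p
  · rw [h'.al_support l' m' (disjoint_left.1 (pel_disjoint h.prime h'.prime hne) hg)]; simp
  · rw [h.al_support l m hg, zero_mul]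

theorem Fam_disjoint (hodd : Odd (Nat.card G)) : Disjoint (Fam H) (Fam K) :=
  disjoint_left.2 fun χ h1 h2 => by
    obtain ⟨-, l, hl, e⟩ := mem_Fam.1 h1
    obtain ⟨-, m, hm, e'⟩ := mem_Fam.1 h2
    have h3 := al_orth h h' hne l l⁻¹ m m⁻¹
    rw [e', ← e, h.tf.norm_two hl (inv_ne_one' hl) (h.tf.not_orb_inv hodd hl)] at h3
    norm_num at h3

theorem mu_const {χ : IrrCharacter G} (hχ : χ ∈ Fam H) (l m : K →* ℂˣ)
    (hl : l ≠ 1) (hm : m ≠ 1) : mu χ.1 l = mu χ.1 m := by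
  by_cases ho : Orb l m
  · exact h'.tf.mu_of_orb (isClass_of_irr χ.2) hm ho
  obtain ⟨h1, k, hk, e⟩ := mem_Fam.1 hχ
  rw [← sub_eq_zero, ← inner_al_right (isClass_of_irr χ.2)]
  refine orth_of_norm_two (al_gen l m) (h'.tf.norm_two hl hm ho) (al_one l m) χ.2 h1 ?_
  rw [← e]
  exact al_orth h h' hne _ _ _ _

theorem parity (hodd : Odd (Nat.card G)) {l : H →* ℂˣ} (hl : l ≠ 1) {χ : IrrCharacter G}
    (hχ : χ.1 ≠ cc χ.1) (e : al l l⁻¹ = χ.1 - cc χ.1) {m : K →* ℂˣ} (hm : m ≠ 1)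
    {ψ : IrrCharacter G} (hψ : ψ.1 ≠ cc ψ.1) (e' : al m m⁻¹ = ψ.1 - cc ψ.1)
    (h0 : classInner χ.1 (al 1 m) = 0) : classInner (al 1 l) ψ.1 ≠ 0 := by
  intro h1
  have real : ∀ {H : Subgroup G} {l : H →* ℂˣ} {χ : IrrCharacter G},
      al l l⁻¹ = χ.1 - cc χ.1 → cc (al 1 l + χ.1) = al 1 l + χ.1 := by
    intro H l χ e
    have e1 : cc (al 1 l + χ.1) = al 1 l⁻¹ + cc χ.1 := by
      have := al_conj (1 : H →* ℂˣ) l
      funext g
      have h2 := congrFun this g
      simp only [cc, Pi.add_apply, map_add] at h2 ⊢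
      rw [h2]
      rfl
    rw [e1, ← al_add 1 l l⁻¹, e]
    abel
  have hcψ : χ ≠ ψ := fun e2 => disjoint_left.1 (Fam_disjoint h h' hne hodd)
    (mem_Fam.2 ⟨hχ, l, hl, e⟩) (e2 ▸ mem_Fam.2 ⟨hψ, m, hm, e'⟩)
  have h2 := real_par hodd (f := (al 1 l + χ.1) * (al 1 m + ψ.1))
    (isGen_mul (isGen_add (al_gen _ _) (isGen_of_irr χ.2)) (isGen_add (al_gen _ _) (isGen_of_irr ψ.2)))
    (by
      funext g
      have a := congrFun (real e) g
      have b := congrFun (real e') g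
      simp only [cc, Pi.mul_apply, map_mul] at a b ⊢
      rw [a, b])
    (n := 0) (d := Nine.dg χ * Nine.dg ψ)
    (by
      rw [inner_mul_left]
      have : (fun x => conj ((al 1 m + ψ.1) x) * (1 : G → ℂ) x) = al 1 m + ψ.1 := by
        funext g
        rw [Pi.one_apply, mul_one]
        exact congrFun (real e') g
      rw [this, Char.inner_add_left, Char.inner_add_right, Char.inner_add_right, h0, h1,
        al_orth h h' hne, inner_irr_ne χ.2 ψ.2 fun e => hcψ (Subtype.ext e)]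
      simp)
    (by simp [al_one, Nine.apply_one])
  have h3 : Odd (Nine.dg χ * Nine.dg ψ) :=
    (hodd.of_dvd_nat (Nine.dg_dvd χ)).mul (hodd.of_dvd_nat (Nine.dg_dvd ψ))
  obtain ⟨k, hk⟩ := h3
  have h4 : ((Nine.dg χ : ℤ) * Nine.dg ψ) = 2 * k + 1 := by exact_mod_cast hk
  omega

end Two

theorem no_cover (hodd : Odd (Nat.card G)) (hE : EP G) [Nontrivial G] (H : ℕ → Subgroup G)
    (hH : ∀ p ∈ (Nat.card G).primeFactors, SY p (H p)) : False := by
  have := Fintype.ofFinite (IrrCharacter G)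
  set I := (Nat.card G).primeFactors with hI
  have hg : (0 : ℝ) < Nat.card G := by exact_mod_cast Nat.card_pos
  have hsplit : ∀ F : G → ℝ, ∑ y, F y = F 1 + ∑ p ∈ I, ∑ y ∈ pel G p, F y := by
    intro F
    rw [← add_sum_erase _ _ (mem_univ 1), ← sum_biUnion fun p hp q hq hne =>
      pel_disjoint (hH p hp).prime (hH q hq).prime hne]
    congr 2
    ext y
    simp only [mem_erase, mem_univ, and_true, mem_biUnion, mem_pel]
    refine ⟨fun hy => ?_, fun ⟨p, _, h, _⟩ => h⟩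
    obtain ⟨q, k, hq, hk, e⟩ := (isPrimePow_nat_iff _).1 (hE y hy)
    refine ⟨q, Nat.mem_primeFactors.2 ⟨hq, ?_, Nat.card_pos.ne'⟩, hy, k, e ▸ pow_orderOf_eq_one y⟩
    exact ((dvd_pow_self q hk.ne').trans e.dvd).trans (orderOf_dvd_natCard y)
  have hIne : I.Nonempty := Nat.nonempty_primeFactors.2 Finite.one_lt_card
  obtain ⟨p, hp, hmin⟩ := exists_min_image I (fun p => aa (H p)) hIne
  have h := hH p hp
  obtain ⟨l, hl⟩ := h.exists_lin
  obtain ⟨χ, hχ, eχ⟩ := h.tf.exists_X hodd hl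
  have hχF : χ ∈ Fam (H p) := mem_Fam.2 ⟨hχ, l, hl, eχ⟩
  have hcl := isClass_of_irr χ.2
  set B := (I.erase p).filter fun q => ∀ m : H q →* ℂˣ, m ≠ 1 → classInner χ.1 (al 1 m) = 0 with hB
  have hBI : ∀ q ∈ B, q ∈ I ∧ p ≠ q := fun q hq =>
    ⟨mem_of_mem_erase (mem_filter.1 hq).1, (ne_of_mem_erase (mem_filter.1 hq).1).symm⟩
  -- Parseval
  have hpar : ∑ q ∈ B, (Fam (H q)).card + 2 ≤ ee (H p) + 1 := by
    obtain ⟨c, hc, hc2⟩ := inner_self_int_sq (al_gen (1 : H p →* ℂˣ) l)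
    rw [h.tf.norm_beta hl] at hc2
    have hc3 : (ee (H p) : ℤ) + 1 = ∑ χ, c χ ^ 2 := by exact_mod_cast hc2
    obtain ⟨ψ, hψ, hψ0⟩ : ∃ ψ ∈ Fam (H p), c ψ ≠ 0 := by
      have h1 := h.tf.inner_al 1 l l l⁻¹
      rw [h.tf.dl_eq _ hl, h.tf.dl_eq _ hl, h.tf.dl_eq _ (inv_ne_one' hl),
        h.tf.dl_eq _ (inv_ne_one' hl), if_neg (fun e => hl e.symm.eq_one),
        if_neg (fun e => inv_ne_one' hl e.symm.eq_one), if_pos (Orb.refl l),
        if_neg (h.tf.not_orb_inv hodd hl), eχ, Char.inner_sub_right] at h1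
      by_contra hcon
      push Not at hcon
      have e1 := hc χ
      have e2 := hc ⟨cc χ.1, isIrr_conj χ.2⟩
      rw [hcon χ hχF] at e1
      rw [hcon ⟨cc χ.1, isIrr_conj χ.2⟩ (mem_Fam.2 ⟨by rw [cc_cc]; exact hχ.symm, l⁻¹, inv_ne_one' hl, by
        have h3 := al_add l l⁻¹ l
        rw [h.tf.al_of_orb hl (Orb.refl l)] at h3
        rw [hom_inv_inv, eq_neg_of_add_eq_zero_right h3, eχ, cc_cc, neg_sub]⟩)] at e2
      rw [e1, e2] at h1
      norm_num at h1
    have htr : ∀ K : Subgroup G, Nine.triv G ∉ Fam K := fun K hK => (mem_Fam.1 hK).1 (by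
      funext g; simp [cc])
    have h1 : ∀ θ ∈ insert (Nine.triv G) (insert ψ (B.biUnion fun q => Fam (H q))), 1 ≤ c θ ^ 2 := by
      intro θ hθ
      have : c θ ≠ 0 := by
        rcases mem_insert.1 hθ with rfl | hθ
        · have e1 := hc (Nine.triv G)
          rw [inner_gen_comm (al_gen _ _) (isGen_of_irr (Nine.triv G).2)] at e1
          have e2 : (1 : ℂ) = c (Nine.triv G) := (one_inner_beta hl).symm.trans e1
          intro e
          rw [e] at e2
          norm_num at e2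
        rcases mem_insert.1 hθ with rfl | hθ
        · exact hψ0
        obtain ⟨q, hq, hθ⟩ := mem_biUnion.1 hθ
        obtain ⟨h2, m, hm, e⟩ := mem_Fam.1 hθ
        have := parity h (hH q (hBI q hq).1) (hBI q hq).2 hodd hl hχ eχ hm h2 e
          ((mem_filter.1 hq).2 m hm)
        rw [hc] at this
        exact_mod_cast this
      have := Int.one_le_abs this
      nlinarith [sq_abs (c θ)]
    have h2 := (card_nsmul_le_sum _ _ _ h1).trans
      (sum_le_sum_of_subset_of_nonneg (subset_univ _) fun _ _ _ => sq_nonneg _)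
    rw [card_insert_of_notMem, card_insert_of_notMem, card_biUnion, ← hc3, nsmul_eq_mul,
      mul_one] at h2
    · exact_mod_cast h2
    · exact fun q hq r hr hne => Fam_disjoint (hH q (hBI q hq).1) (hH r (hBI r hr).1) hne hodd
    · intro h3
      obtain ⟨q, hq, h4⟩ := mem_biUnion.1 h3
      exact disjoint_left.1 (Fam_disjoint h (hH q (hBI q hq).1) (hBI q hq).2 hodd) hψ h4
    · intro h3
      rcases mem_insert.1 h3 with e | h3
      · exact htr _ (e ▸ hψ)
      · obtain ⟨q, -, h4⟩ := mem_biUnion.1 h3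
        exact htr _ h4
  -- numerics
  have hee : ∀ q ∈ I, 3 ≤ ee (H q) ∧ Odd (ee (H q)) ∧ 2 * ee (H q) + 1 ≤ aa (H q) := fun q hq => by
    obtain ⟨m, hm⟩ := (hH q hq).exists_lin
    have h1 := hodd.of_dvd_nat (ee_dvd (H q))
    have h2 := (hH q hq).ne1
    refine ⟨?_, h1, (hH q hq).tf.two_ee hodd hm⟩
    obtain ⟨k, hk⟩ := h1
    omega
  have hodda : ∀ q ∈ I, Odd (aa (H q)) := fun q hq => by
    obtain ⟨k, -, hk⟩ := (hH q hq).aa_pow
    rw [hk]
    exact ((hH q hq).prime.odd_of_ne_two ((hH q hq).ne_two hodd)).pow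
  obtain ⟨b, hb, hb'⟩ : ∃ b : ℕ, ((4 ≤ ee (H p) ∧ 2 * ee (H p) + 1 ≤ aa (H p) ∧ aa (H p) + 1 ≤ b) ∨
      (ee (H p) = 3 ∧ 7 ≤ aa (H p) ∧ 10 ≤ b)) ∧ ∀ q ∈ B, b ≤ aa (H q) - 1 := by
    have key : ∀ q ∈ B, aa (H p) + 1 ≤ aa (H q) - 1 := fun q hq => by
      have h1 := hmin q (hBI q hq).1
      have h2 : aa (H p) ≠ aa (H q) := fun e => by
        obtain ⟨i, hi, ei⟩ := h.aa_pow
        obtain ⟨j, hj, ej⟩ := (hH q (hBI q hq).1).aa_pow
        have : p ∣ q ^ j := by rw [← ej, ← e, ei]; exact dvd_pow_self p hi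
        exact (hBI q hq).2 ((Nat.prime_dvd_prime_iff_eq h.prime (hH q (hBI q hq).1).prime).1
          (h.prime.dvd_of_dvd_pow this))
      obtain ⟨i, hi⟩ := hodda p hp
      obtain ⟨j, hj⟩ := hodda q (hBI q hq).1
      omega
    obtain ⟨h1, h2, h3⟩ := hee p hp
    by_cases h4 : 4 ≤ ee (H p)
    · exact ⟨_, Or.inl ⟨h4, h3, le_rfl⟩, key⟩
    refine ⟨10, Or.inr ⟨by omega, by omega, le_rfl⟩, fun q hq => ?_⟩
    have h5 := key q hq
    have h6 : aa (H q) ≠ 9 := fun e => by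
      obtain ⟨j, hj, ej⟩ := (hH q (hBI q hq).1).aa_pow
      obtain ⟨a1, ⟨k, a2⟩, a3⟩ := hee q (hBI q hq).1
      have h7 : q ∣ 3 ^ 2 := by rw [show 3 ^ 2 = q ^ j by omega]; exact dvd_pow_self q hj
      have h8 := (hH q (hBI q hq).1).prime.dvd_of_dvd_pow h7
      exact (hH q (hBI q hq).1).nd (by rwa [show ee (H q) = 3 by omega])
    obtain ⟨j, hj⟩ := hodda q (hBI q hq).1
    omega
  have hb0 : (0 : ℝ) < b := by
    have : 0 < b := by omega
    exact_mod_cast this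
  have hfin := fin_num (e := ee (H p)) (a := aa (H p)) (b := b) (by exact_mod_cast hb)
  -- class sizes
  have hpos : ∀ q, (0 : ℝ) < Nat.card (H q) := fun q => by exact_mod_cast Nat.card_pos
  have hepos : ∀ q, (0 : ℝ) < ee (H q) := fun q => by exact_mod_cast ee_pos (H q)
  have hC : ∀ q ∈ I, (∑ _y ∈ pel G q, (1 : ℝ)) * (Nat.card (H q) * ee (H q)) =
      Nat.card G * (Nat.card (H q) - 1) := fun q hq => by
    have := (hH q hq).sum_pel (fun _ => 1) fun _ _ => rfl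
    rw [← card_mul_ee, sum_const (s := (univ : Finset (H q)).erase 1), card_erase_of_mem (mem_univ _),
      card_univ, ← Nat.card_eq_fintype_card, nsmul_eq_mul, Nat.cast_pred Nat.card_pos] at this
    push_cast at this
    rw [this, mul_one]
  have hC' : ∀ q ∈ I, ∑ _y ∈ pel G q, (1 : ℝ) < Nat.card G * (1 / ee (H q)) := fun q hq => by
    refine lt_of_mul_lt_mul_right ?_ (mul_pos (hpos q) (hepos q)).le
    rw [hC q hq, mul_assoc, mul_comm (Nat.card (H q) : ℝ), ← mul_assoc (1 / _),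
      one_div_mul_cancel (hepos q).ne', one_mul]
    exact mul_lt_mul_of_pos_left (by linarith) hg
  have hS : ∀ q ∈ I, (∑ y ∈ pel G q, ‖χ.1 y‖ ^ 2) * (Nat.card (H q) * ee (H q)) =
      Nat.card G * ∑ x ∈ (univ : Finset (H q)).erase 1, ‖χ.1 x‖ ^ 2 := fun q hq => by
    have := (hH q hq).sum_pel (fun y => ‖χ.1 y‖ ^ 2) fun g x => by rw [hcl g x]
    rw [← card_mul_ee] at this
    push_cast at this
    exact this
  have hS1 : Nat.card G * (1 - (ee (H p) : ℝ) / aa (H p)) ≤ ∑ y ∈ pel G p, ‖χ.1 y‖ ^ 2 := by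
    have ha : (0 : ℝ) < aa (H p) := by
      have := (hee p hp).2.2
      have : 0 < aa (H p) := by omega
      exact_mod_cast this
    refine le_of_mul_le_mul_right ?_ (mul_pos (hpos p) (hepos p))
    rw [hS p hp, mul_assoc]
    refine mul_le_mul_of_nonneg_left (le_of_mul_le_mul_left ?_ ha) hg.le
    refine le_trans (le_of_eq ?_) (h.tf.norm_ge hodd hl hχ eχ)
    field_simp
  have hS2 : ∀ q ∈ (I.erase p).filter fun q =>
      ¬ ∀ m : H q →* ℂˣ, m ≠ 1 → classInner χ.1 (al 1 m) = 0,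
      ∑ _y ∈ pel G q, (1 : ℝ) ≤ ∑ y ∈ pel G q, ‖χ.1 y‖ ^ 2 := fun q hq => by
    obtain ⟨h1, h2⟩ := mem_filter.1 hq
    push Not at h2
    obtain ⟨m, hm, h2⟩ := h2
    rw [inner_al_right hcl, sub_ne_zero] at h2
    have hq := mem_of_mem_erase h1
    refine le_of_mul_le_mul_right ?_ (mul_pos (hpos q) (hepos q))
    rw [hS q hq, hC q hq]
    exact mul_le_mul_of_nonneg_left ((hH q hq).norm_ge hodd (isChar_of_irr χ.2)
      (mu_const h (hH q hq) (ne_of_mem_erase h1).symm hχF) hm h2) hg.le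
  have hS3 : ∑ q ∈ B, ∑ _y ∈ pel G q, (1 : ℝ) ≤ Nat.card G * ((ee (H p) - 1) / b) := by
    have h1 : ∀ q ∈ B, ∑ _y ∈ pel G q, (1 : ℝ) ≤ Nat.card G * ((Fam (H q)).card / b) := by
      intro q hq
      refine (hC' q (hBI q hq).1).le.trans (mul_le_mul_of_nonneg_left ?_ hg.le)
      rw [div_le_div_iff₀ (hepos q) hb0, one_mul, mul_comm]
      exact_mod_cast (hb' q hq).trans ((hH q (hBI q hq).1).tf.aa_le hodd)
    refine (sum_le_sum h1).trans ?_
    rw [← mul_sum, ← sum_div]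
    refine mul_le_mul_of_nonneg_left (div_le_div_of_nonneg_right ?_ hb0.le) hg.le
    have : ((∑ q ∈ B, (Fam (H q)).card + 2 : ℕ) : ℝ) ≤ (ee (H p) + 1 : ℕ) := by exact_mod_cast hpar
    push_cast at this
    linarith
  have hA := hsplit fun _ => 1
  have hB' := hsplit fun y => ‖χ.1 y‖ ^ 2
  have hn : ∑ y, ‖χ.1 y‖ ^ 2 = Nat.card G := by
    have := inner_self_eq χ.1
    rw [inner_irr_self χ.2] at this
    have h2 : (1 : ℝ) = (Nat.card G : ℝ)⁻¹ * ∑ g, ‖χ.1 g‖ ^ 2 := by exact_mod_cast this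
    rw [eq_inv_mul_iff_mul_eq₀ hg.ne', mul_one] at h2
    exact h2.symm
  have hd : 1 ≤ ‖χ.1 1‖ ^ 2 := by
    rw [Nine.apply_one, Complex.norm_natCast]
    have : (1 : ℝ) ≤ Nine.dg χ := by exact_mod_cast Nine.dg_pos χ
    nlinarith
  rw [sum_const, card_univ, ← Nat.card_eq_fintype_card, nsmul_eq_mul, mul_one] at hA
  rw [← add_sum_erase _ _ hp, ← sum_filter_add_sum_filter_not (I.erase p)
    (fun q => ∀ m : H q →* ℂˣ, m ≠ 1 → classInner χ.1 (al 1 m) = 0)] at hA hB'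
  have h1 := sum_le_sum hS2
  have h2 : 0 ≤ ∑ q ∈ B, ∑ y ∈ pel G q, ‖χ.1 y‖ ^ 2 :=
    sum_nonneg fun _ _ => sum_nonneg fun _ _ => sq_nonneg _
  have h3 := hC' p hp
  have h4 := mul_le_mul_of_nonneg_left hfin hg.le
  rw [← hB] at hA hB'
  rw [hn] at hB'
  nlinarith

omit [Fintype G] in
theorem solvable_aux (n : ℕ) : ∀ (G : Type u) [Group G] [Finite G], Nat.card G = n →
    Odd (Nat.card G) → EP G → Group.IsSolvable G := by
  induction n using Nat.strong_induction_on with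
  | _ n ih =>
  intro G _ _ hn hodd hE
  by_contra hG
  have := Fintype.ofFinite G
  have ih1 : ∀ H : Subgroup G, H ≠ ⊤ → Group.IsSolvable H := fun H hH =>
    ih _ (by
      rw [← hn, ← Subgroup.card_top (G := G)]
      exact R3.card_lt_of_lt (lt_top_iff_ne_top.2 hH)) H rfl
      (hodd.of_dvd_nat (Subgroup.card_subgroup_dvd_card H)) (hE.subgroup H)
  have hsimple : ∀ R : Subgroup G, R.Normal → R ≠ ⊥ → R = ⊤ := fun R hR h0 => by
    by_contra hT
    refine hG ((Group.isSolvable_iff_subgroup_quotient R).2 ⟨ih1 R hT, ih _ ?_ _ rfl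
      (hodd.of_dvd_nat (Subgroup.card_quotient_dvd_card R)) (hE.quot R)⟩)
    rw [← hn, ← R.card_mul_index, ← Subgroup.index_eq_card]
    exact lt_mul_of_one_lt_left (Nat.pos_of_ne_zero Subgroup.FiniteIndex.index_ne_zero)
      ((Subgroup.one_lt_card_iff_ne_bot R).2 h0)
  have hnt : Nontrivial G := by
    by_contra h
    have := not_nontrivial_iff_subsingleton.1 h
    exact hG inferInstance
  have hperf : commutator G = ⊤ := hsimple _ inferInstance fun e => hG ⟨1, e⟩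
  have key : ∀ p : ℕ, ∃ H : Subgroup G, p ∈ (Nat.card G).primeFactors → SY p H := fun p => by
    by_cases hp : p ∈ (Nat.card G).primeFactors
    swap
    · exact ⟨⊥, fun h => absurd h hp⟩
    obtain ⟨hpp, hpd, -⟩ := Nat.mem_primeFactors.1 hp
    have := Fact.mk hpp
    obtain ⟨P⟩ : Nonempty (Sylow p G) := inferInstance
    have hp2 : p ≠ 2 := fun e => (Nat.not_even_iff_odd.2 hodd) (even_iff_two_dvd.2 (e ▸ hpd))
    have hP0 : (P : Subgroup G) ≠ ⊥ := P.ne_bot_of_dvd_card hpd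
    have hsol : ∀ R : Subgroup G, R ≠ ⊥ → IsPGroup p R →
        Group.IsSolvable (Subgroup.normalizer (R : Set G)) := fun R h0 hR => by
      refine ih1 _ fun e => hG ?_
      have e1 := hsimple R (Subgroup.normalizer_eq_top_iff.1 e) h0
      rw [e1] at hR
      have := (hR.of_equiv Subgroup.topEquiv).isNilpotent
      infer_instance
    have hle : (P : Subgroup G) ≤ commutator G := hperf ▸ le_top
    refine ⟨P, fun _ => ⟨hpp, ⟨fun x hx hx1 g hg => sylow_TI hE hp2 hsol P hP0 hle hx1 hx hg,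
      fun l hl x hx hx1 e => ?_⟩, P.isPGroup', hP0, fun x k hk => ?_, fun hd => ?_, fun e => ?_⟩⟩
    · obtain ⟨k, hk⟩ := pow_of_mem P.isPGroup' hx
      obtain ⟨j, hj⟩ := hE.comm hpp e.symm hx1 hk
      exact R3.mem_sylow_of_norm P hl hj
    · obtain ⟨Q, hQ⟩ := (isPGroup_of_pow (U := Subgroup.zpowers x) (p := p) (by
        rintro _ ⟨i, rfl⟩
        exact ⟨k, by
          change (x ^ i) ^ p ^ k = 1
          rw [← zpow_natCast, ← zpow_mul, mul_comm, zpow_mul, zpow_natCast, hk, one_zpow]⟩)).exists_le_sylow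
      obtain ⟨g, rfl⟩ := MulAction.exists_smul_eq G P Q
      exact ⟨g⁻¹, by simpa using R3.mem_smul_sylow.1 (hQ (Subgroup.mem_zpowers x))⟩
    · exact P.not_dvd_index (hd.trans (Subgroup.relIndex_dvd_index_of_le Subgroup.le_normalizer))
    · obtain ⟨g, hg, hg'⟩ := exists_not_mem hE hp2 hsol P hP0 hle
      have := Subgroup.index_eq_one.1 e
      exact hg' (show (⟨g, hg⟩ : NN (P : Subgroup G)) ∈ (P : Subgroup G).subgroupOf _ from
        this ▸ Subgroup.mem_top _)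
  choose H hH using key
  exact no_cover hodd hE H hH

omit [Fintype G] in
/-- A finite group of odd order all of whose elements have prime power order is solvable. -/
theorem solvable_of_odd [Finite G] (hodd : Odd (Nat.card G)) (h : EP G) : Group.IsSolvable G :=
  solvable_aux _ G rfl hodd h

omit [Fintype G] in
theorem even_card [Finite G] [IsSimpleGroup G] (hG : ¬ IsMulCommutative G)
    (h : ∀ g : G, g ≠ 1 → IsPrimePow (orderOf g)) : Even (Nat.card G) := by
  by_contra hodd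
  exact hG ⟨⟨IsSimpleGroup.comm_iff_isSolvable.2 (solvable_of_odd (Nat.not_even_iff_odd.1 hodd) h)⟩⟩

end Cfsg.Agent.EPO
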